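import Cfsg.Agent.S3501
import Cfsg.Agent.Lib.PermRec.Derangements
import Mathlib

/-!
# Derangements of primitive groups and minimal normal subgroups

A minimal normal subgroup `N` of a primitive group and a subgroup `T` minimal among the nontrivial
subgroups normalised by `N`.  If `T` is intransitive then the centraliser of `T` in `N` contains
an element `w` such that all of the `m * w`, `m ∈ T`, are derangements.  If `T` commutes with a
transitive subgroup then all nonidentity elements of `T` are derangements.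
-/

set_option autoImplicit false
set_option linter.style.haveILetI false

open MulAction

namespace Cfsg.Agent.Lib.Derange.Soc

open Cfsg.Agent.S3501

variable {G : Type*} [Group G] {Ω : Type*} [MulAction G Ω]

/-- There is a minimal normal subgroup. -/
lemma exists_minimal_normal [Finite G] (hne : (⊤ : Subgroup G) ≠ ⊥) :
    ∃ N : Subgroup G, N.Normal ∧ N ≠ ⊥ ∧
      ∀ M : Subgroup G, M.Normal → M ≠ ⊥ → M ≤ N → M = N := by
  obtain ⟨N, -, hNmin⟩ := Finite.exists_le_minimal (α := Subgroup G)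
      (p := fun H => H.Normal ∧ H ≠ ⊥) (a := ⊤) ⟨inferInstance, hne⟩
  exact ⟨N, hNmin.prop.1, hNmin.prop.2,
    fun M h1 h2 h3 => le_antisymm h3 (hNmin.le_of_le ⟨h1, h2⟩ h3)⟩

/-- A subgroup minimal among those normalised by `N` exists. -/
lemma exists_minIn [Finite G] {N : Subgroup G} (hN : N ≠ ⊥) : ∃ T : Subgroup G, MinIn N T := by
  obtain ⟨T, -, hTmin⟩ := Finite.exists_le_minimal (α := Subgroup G)
    (p := fun T => T ≠ ⊥ ∧ T ≤ N ∧ ∀ n ∈ N, ∀ t ∈ T, n * t * n⁻¹ ∈ T) (a := N)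
    ⟨hN, le_rfl, fun n hn t ht => N.mul_mem (N.mul_mem hn ht) (N.inv_mem hn)⟩
  exact ⟨T, hTmin.prop.2.1, hTmin.prop.1, hTmin.prop.2.2, fun R hR hRb hRn =>
    le_antisymm hR (hTmin.le_of_le ⟨hRb, hR.trans hTmin.prop.2.1, hRn⟩ hR)⟩

/-- If `N` is not abelian, neither is `T`. -/
lemma exists_noncomm {N T : Subgroup G} (hNn : N.Normal)
    (hNmin : ∀ M : Subgroup G, M.Normal → M ≠ ⊥ → M ≤ N → M = N) (hT : MinIn N T)
    (hnc : ¬ ∀ a ∈ N, ∀ b ∈ N, a * b = b * a) : ∃ a ∈ T, ∃ b ∈ T, a * b ≠ b * a := by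
  by_contra hcon
  push Not at hcon
  apply hnc
  let Z : Subgroup G := N ⊓ Subgroup.centralizer (N : Set G)
  have hZn : Z.Normal := by
    haveI := hNn
    haveI : (Subgroup.centralizer (N : Set G)).Normal := Subgroup.normal_centralizer
    exact Subgroup.normal_inf_normal _ _
  have hTZ : T ≤ Z := by
    intro t ht
    refine ⟨hT.le ht, ?_⟩
    show t ∈ Subgroup.centralizer (N : Set G)
    rw [Subgroup.mem_centralizer_iff]
    intro n hn
    obtain ⟨c, t', rfl, ht', -, hct⟩ := hT.decomp hNn hNmin n hn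
    calc c * t' * t = c * (t' * t) := by group
      _ = c * (t * t') := by rw [hcon t' ht' t ht]
      _ = (c * t) * t' := by group
      _ = t * (c * t') := by rw [hct t ht]; group
  have hZb : Z ≠ ⊥ := by
    intro h
    apply hT.ne
    rw [eq_bot_iff, ← h]
    exact hTZ
  have hZN := hNmin Z hZn hZb inf_le_left
  intro a ha b hb
  have h1 : a ∈ Z := by rw [hZN]; exact ha
  exact (Subgroup.mem_centralizer_iff.1 h1.2 b hb).symm

/-- `T` is not a `p`-group. -/
lemma exists_prime_order_ne [Finite G] {N T : Subgroup G} (hNn : N.Normal)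
    (hNmin : ∀ M : Subgroup G, M.Normal → M ≠ ⊥ → M ≤ N → M = N) (hT : MinIn N T)
    (hnc : ∃ a ∈ T, ∃ b ∈ T, a * b ≠ b * a) (p : ℕ) (hp : p.Prime) :
    ∃ t ∈ T, ∃ q : ℕ, q.Prime ∧ q ≠ p ∧ orderOf t = q := by
  by_contra hcon
  push Not at hcon
  haveI : Fact p.Prime := ⟨hp⟩
  have hpg : IsPGroup p T := by
    intro t
    have h0 : orderOf (t : G) ≠ 0 := (orderOf_pos _).ne'
    have h1 : ∀ {d : ℕ}, d.Prime → d ∣ orderOf (t : G) → d = p := by
      intro d hd hdvd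
      by_contra hne
      exact hcon _ (T.pow_mem t.2 (orderOf (t : G) / d)) d hd hne (orderOf_pow_orderOf_div h0 hdvd)
    have h2 := Nat.eq_prime_pow_of_unique_prime_dvd h0 h1
    refine ⟨(orderOf (t : G)).primeFactorsList.length, ?_⟩
    apply Subtype.ext
    show (t : G) ^ _ = 1
    rw [← h2]
    exact pow_orderOf_eq_one _
  obtain ⟨x, hx, hx1⟩ : ∃ x ∈ T, x ≠ 1 := by
    by_contra hcon'
    push Not at hcon'
    exact hT.ne ((Subgroup.eq_bot_iff_forall _).2 hcon')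
  haveI : Nontrivial T := ⟨⟨⟨x, hx⟩, 1, fun h1 => hx1 (congrArg Subtype.val h1)⟩⟩
  have hcen := hpg.center_nontrivial
  obtain ⟨z, hz⟩ := exists_ne (1 : Subgroup.center T)
  have hz1 : ((z : T) : G) = 1 := by
    apply hT.center_eq_one hNn hNmin hnc (z : T).2
    intro t ht
    have h2 := (Subgroup.mem_center_iff.1 z.2) ⟨t, ht⟩
    exact (congrArg Subtype.val h2).symm
  apply hz
  apply Subtype.ext
  apply Subtype.ext
  exact hz1

/-- An element commuting with a transitive subgroup and fixing a point is trivial. -/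
lemma eq_one_of_comm_trans [FaithfulSMul G Ω] {S : Subgroup G} (htr : ∀ a b : Ω, ∃ s ∈ S, s • a = b)
    {t : G} (hc : ∀ s ∈ S, t * s = s * t) {a : Ω} (ha : t • a = a) : t = 1 := by
  apply FaithfulSMul.eq_of_smul_eq_smul (α := Ω)
  intro b
  obtain ⟨s, hs, rfl⟩ := htr a b
  rw [one_smul, ← mul_smul, hc s hs, mul_smul, ha]

/-- A derangement conjugated is a derangement. -/
lemma der_conj {g x : G} (hx : Der G (Ω := Ω) x) : Der G (Ω := Ω) (g * x * g⁻¹) := by
  intro a ha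
  apply hx (g⁻¹ • a)
  simp only [mul_smul] at ha
  rw [eq_inv_smul_iff]
  exact ha

/-- Conjugate elements have the same order. -/
lemma orderOf_conj' (g x : G) : orderOf (g * x * g⁻¹) = orderOf x := by
  have := orderOf_injective (MulAut.conj g).toMonoidHom (MulAut.conj g).injective x
  simpa using this

/-- The key construction in the intransitive case. -/
lemma exists_fpf [Finite G] [Finite Ω] [FaithfulSMul G Ω] [Nontrivial Ω] (hprim : IsPreprimitive G Ω)
    {N T : Subgroup G} (hNn : N.Normal) (hN : N ≠ ⊥)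
    (hNmin : ∀ M : Subgroup G, M.Normal → M ≠ ⊥ → M ≤ N → M = N) (hT : MinIn N T)
    (hnt : ¬ ∀ a b : Ω, ∃ t ∈ T, t • a = b) :
    ∃ w ∈ N, (∀ t ∈ T, w * t = t * w) ∧ ∀ m ∈ T, Der G (Ω := Ω) (m * w) := by
  obtain ⟨x₀⟩ := (inferInstance : Nonempty Ω)
  have htr := normal_trans (Ω := Ω) hprim hNn hN
  have hdec := hT.decomp hNn hNmin
  let L : Subgroup G := N ⊓ Subgroup.centralizer (T : Set G)
  have hL : ∀ l : G, l ∈ L ↔ l ∈ N ∧ ∀ t ∈ T, l * t = t * l := by
    intro l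
    constructor
    · rintro ⟨h1, h2⟩
      exact ⟨h1, fun t ht => (Subgroup.mem_centralizer_iff.1 h2 t ht).symm⟩
    · rintro ⟨h1, h2⟩
      exact ⟨h1, Subgroup.mem_centralizer_iff.2 fun t ht => (h2 t ht).symm⟩
  let L₀ : Subgroup G :=
    { carrier := {l | l ∈ L ∧ ∃ t ∈ T, l • x₀ = t • x₀}
      mul_mem' := by
        rintro a b ⟨ha, t, ht, hat⟩ ⟨hb, t', ht', hbt⟩
        refine ⟨L.mul_mem ha hb, t' * t, T.mul_mem ht' ht, ?_⟩
        rw [mul_smul, hbt, ← mul_smul, ((hL a).1 ha).2 t' ht', mul_smul, hat, mul_smul]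
      one_mem' := ⟨L.one_mem, 1, T.one_mem, rfl⟩
      inv_mem' := by
        rintro a ⟨ha, t, ht, hat⟩
        refine ⟨L.inv_mem ha, t⁻¹, T.inv_mem ht, ?_⟩
        have h2 := ((hL _).1 (L.inv_mem ha)).2 t ht
        rw [eq_inv_smul_iff, ← mul_smul, ← h2, mul_smul, ← hat, inv_smul_smul] }
  have hne : L₀.subgroupOf L ≠ ⊤ := by
    intro htop
    apply hnt
    have hall : ∀ l ∈ L, ∃ t ∈ T, l • x₀ = t • x₀ := by
      intro l hl
      have h1 : (⟨l, hl⟩ : L) ∈ L₀.subgroupOf L := by rw [htop]; trivial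
      exact (Subgroup.mem_subgroupOf.1 h1).2
    have hfrom : ∀ y : Ω, ∃ t ∈ T, t • x₀ = y := by
      intro y
      obtain ⟨n, hn, rfl⟩ := htr x₀ y
      obtain ⟨c, t, rfl, ht, hc, hct⟩ := hdec n hn
      obtain ⟨t', ht', hc'⟩ := hall c ((hL c).2 ⟨hc, hct⟩)
      refine ⟨t * t', T.mul_mem ht ht', ?_⟩
      rw [mul_smul, ← hc', ← mul_smul, hct t ht]
    intro a b
    obtain ⟨t₁, ht₁, rfl⟩ := hfrom a
    obtain ⟨t₂, ht₂, rfl⟩ := hfrom b
    exact ⟨t₂ * t₁⁻¹, T.mul_mem ht₂ (T.inv_mem ht₁), by simp [mul_smul]⟩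
  obtain ⟨w, hw⟩ := exists_not_mem_conj _ hne
  refine ⟨w, ((hL _).1 w.2).1, ((hL _).1 w.2).2, fun m hm x hx => ?_⟩
  obtain ⟨n, hn, rfl⟩ := htr x₀ x
  obtain ⟨c, t, rfl, ht, hc, hct⟩ := hdec n hn
  have hcL : c ∈ L := (hL c).2 ⟨hc, hct⟩
  let g : L := ⟨c, hcL⟩
  apply hw g
  have hwc := ((hL _).1 w.2).2
  -- the conjugate of `w` moves the point into the `T`-orbit
  have hgL : ((g⁻¹ * w * g : L) : G) ∈ L := (g⁻¹ * w * g : L).2
  have hgc := ((hL _).1 hgL).2
  rw [Subgroup.mem_subgroupOf]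
  refine ⟨hgL, t⁻¹ * m⁻¹ * t, T.mul_mem (T.mul_mem (T.inv_mem ht) (T.inv_mem hm)) ht, ?_⟩
  have hgdef : ((g⁻¹ * w * g : L) : G) = c⁻¹ * w * c := rfl
  have h1 : (m * t * (c⁻¹ * (w : G) * c)) • x₀ = t • x₀ := by
    have h2 : m * t * (c⁻¹ * (w : G) * c) = c⁻¹ * (m * w * (c * t)) := by
      have h3 := hct m hm
      have h4 := hwc t ht
      have h5 := hct t ht
      have h6 := hgc t ht
      rw [hgdef] at h6
      have h3' : c⁻¹ * m = m * c⁻¹ := by
        rw [inv_mul_eq_iff_eq_mul, ← mul_assoc, h3, mul_assoc, mul_inv_cancel, mul_one]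
      calc m * t * (c⁻¹ * (w : G) * c) = m * (t * (c⁻¹ * (w : G) * c)) := by group
        _ = m * ((c⁻¹ * (w : G) * c) * t) := by rw [h6]
        _ = (m * c⁻¹) * (w * (c * t)) := by group
        _ = (c⁻¹ * m) * (w * (c * t)) := by rw [h3']
        _ = c⁻¹ * (m * w * (c * t)) := by group
    rw [h2, mul_smul, mul_smul (m * (w : G)), hx, mul_smul, inv_smul_smul]
  rw [hgdef]
  have h7 : t⁻¹ * m⁻¹ * t = (m * t)⁻¹ * t := by group
  rw [h7, mul_smul (m * t)⁻¹, eq_inv_smul_iff, ← mul_smul]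
  exact h1

/-- All nonidentity elements of a subgroup commuting with a transitive subgroup are derangements. -/
lemma der_of_comm_trans [FaithfulSMul G Ω] {S : Subgroup G} (htr : ∀ a b : Ω, ∃ s ∈ S, s • a = b)
    {t : G} (hc : ∀ s ∈ S, t * s = s * t) (ht : t ≠ 1) : Der G (Ω := Ω) t :=
  fun _ ha => ht (eq_one_of_comm_trans htr hc ha)

/-- Conjugates of `T` transitive if `T` is. -/
lemma map_conj_trans {T : Subgroup G} (htr : ∀ a b : Ω, ∃ s ∈ T, s • a = b) (g : G) :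
    ∀ a b : Ω, ∃ s ∈ T.map (MulAut.conj g).toMonoidHom, s • a = b := by
  intro a b
  obtain ⟨s, hs, hsa⟩ := htr (g⁻¹ • a) (g⁻¹ • b)
  refine ⟨g * s * g⁻¹, ⟨s, hs, by simp⟩, ?_⟩
  simp only [mul_smul]
  rw [hsa, smul_inv_smul]

/-- A normal `T` with `T = N`: simplicity. -/
lemma isSimple_of_minIn {T : Subgroup G} (hTn : T.Normal)
    (hNmin : ∀ M : Subgroup G, M.Normal → M ≠ ⊥ → M ≤ T → M = T) (hT : MinIn T T) :
    IsSimpleGroup T := by
  obtain ⟨x, hx, hx1⟩ : ∃ x ∈ T, x ≠ 1 := by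
    by_contra hcon'
    push Not at hcon'
    exact hT.ne ((Subgroup.eq_bot_iff_forall _).2 hcon')
  haveI : Nontrivial T := ⟨⟨⟨x, hx⟩, 1, fun h1 => hx1 (congrArg Subtype.val h1)⟩⟩
  refine ⟨fun R hR => ?_⟩
  have h1 : R.map T.subtype = ⊥ ∨ R.map T.subtype = T := by
    apply hT.normal_eq hTn hNmin
    · rintro _ ⟨r, -, rfl⟩
      exact r.2
    · rintro t ht _ ⟨r, hr, rfl⟩
      exact ⟨⟨t, ht⟩ * r * ⟨t, ht⟩⁻¹, hR.conj_mem r hr _, rfl⟩
  rcases h1 with h1 | h1
  · left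
    exact (Subgroup.map_eq_bot_iff_of_injective R T.subtype_injective).1 h1
  · right
    rw [eq_top_iff]
    rintro t -
    have h2 : (t : G) ∈ R.map T.subtype := by rw [h1]; exact t.2
    obtain ⟨r, hr, hrt⟩ := h2
    have : r = t := Subtype.ext hrt
    rwa [← this]

/-- An abelian minimal normal subgroup of a primitive group is regular and elementary abelian. -/
lemma abelian_min_normal [Finite G] [Finite Ω] [FaithfulSMul G Ω] (hprim : IsPreprimitive G Ω)
    {N : Subgroup G} (hNn : N.Normal) (hN : N ≠ ⊥)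
    (hNmin : ∀ M : Subgroup G, M.Normal → M ≠ ⊥ → M ≤ N → M = N)
    (hcomm : ∀ a ∈ N, ∀ b ∈ N, a * b = b * a) :
    (∃ r : ℕ, r.Prime ∧ ∀ a ∈ N, a ^ r = 1) ∧ (∀ a b : Ω, ∃ n ∈ N, n • a = b) ∧
      ∀ n ∈ N, ∀ a : Ω, n • a = a → n = 1 := by
  have htr := normal_trans (Ω := Ω) hprim hNn hN
  refine ⟨?_, htr, fun n hn a ha => eq_one_of_comm_trans htr (hcomm n hn) ha⟩
  obtain ⟨x, hx, hx1⟩ : ∃ x ∈ N, x ≠ 1 := by
    by_contra hcon'
    push Not at hcon'
    exact hN ((Subgroup.eq_bot_iff_forall _).2 hcon')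
  have hord : orderOf x ≠ 1 := fun h => hx1 (orderOf_eq_one_iff.1 h)
  obtain ⟨r, hr, hrd⟩ := Nat.exists_prime_and_dvd hord
  have hxr : orderOf (x ^ (orderOf x / r)) = r :=
    orderOf_pow_orderOf_div (orderOf_pos x).ne' hrd
  let M : Subgroup G :=
    { carrier := {a | a ∈ N ∧ a ^ r = 1}
      mul_mem' := by
        rintro a b ⟨ha, ha'⟩ ⟨hb, hb'⟩
        refine ⟨N.mul_mem ha hb, ?_⟩
        have : Commute a b := hcomm a ha b hb
        rw [this.mul_pow, ha', hb', one_mul]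
      one_mem' := ⟨N.one_mem, one_pow _⟩
      inv_mem' := by
        rintro a ⟨ha, ha'⟩
        exact ⟨N.inv_mem ha, by rw [inv_pow, ha', inv_one]⟩ }
  have hMn : M.Normal := by
    constructor
    rintro a ⟨ha, ha'⟩ g
    refine ⟨hNn.conj_mem a ha g, ?_⟩
    show (g * a * g⁻¹) ^ r = 1
    rw [conj_pow, ha', mul_one, mul_inv_cancel]
  have hMb : M ≠ ⊥ := by
    intro h
    have h1 : x ^ (orderOf x / r) ∈ M := by
      refine ⟨N.pow_mem hx _, ?_⟩
      have h2 := pow_orderOf_eq_one (x ^ (orderOf x / r))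
      rw [hxr] at h2
      exact h2
    rw [h, Subgroup.mem_bot] at h1
    rw [h1, orderOf_one] at hxr
    exact hr.one_lt.ne hxr
  have hMN := hNmin M hMn hMb (fun a ha => ha.1)
  refine ⟨r, hr, fun a ha => ?_⟩
  have h1 : a ∈ M := by rw [hMN]; exact ha
  exact h1.2

end Cfsg.Agent.Lib.Derange.Soc
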