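import Cfsg.Agent.Lib.Derange.Soc
import Mathlib

/-!
# Primitive groups with two classes of derangements: the non-abelian socle cases
-/

set_option autoImplicit false
set_option linter.style.haveILetI false

open MulAction

namespace Cfsg.Agent.Lib.Derange.TwoClass

open Cfsg.Agent.S3501 Cfsg.Agent.Lib.Derange.Soc

variable {G : Type*} [Group G] {Ω : Type*} [MulAction G Ω]

/-- Three pairwise non-conjugate derangements exclude exactly two classes. -/
lemma false_of_three [Finite G]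
    (hκ : Nat.card {c : ConjClasses G // ∃ g : G, ConjClasses.mk g = c ∧ ∀ ω : Ω, g • ω ≠ ω} = 2)
    {x y z : G} (hx : Der G (Ω := Ω) x) (hy : Der G (Ω := Ω) y) (hz : Der G (Ω := Ω) z)
    (hxy : ¬ IsConj x y) (hxz : ¬ IsConj x z) (hyz : ¬ IsConj y z) : False := by
  classical
  let S := {c : ConjClasses G // ∃ g : G, ConjClasses.mk g = c ∧ ∀ ω : Ω, g • ω ≠ ω}
  haveI : Fintype S := Fintype.ofFinite _
  let a : S := ⟨ConjClasses.mk x, x, rfl, hx⟩
  let b : S := ⟨ConjClasses.mk y, y, rfl, hy⟩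
  let c : S := ⟨ConjClasses.mk z, z, rfl, hz⟩
  have hab : a ≠ b := fun h => hxy (ConjClasses.mk_eq_mk_iff_isConj.1 (congrArg Subtype.val h))
  have hac : a ≠ c := fun h => hxz (ConjClasses.mk_eq_mk_iff_isConj.1 (congrArg Subtype.val h))
  have hbc : b ≠ c := fun h => hyz (ConjClasses.mk_eq_mk_iff_isConj.1 (congrArg Subtype.val h))
  have hc : ({a, b, c} : Finset S).card = 3 := Finset.card_eq_three.2 ⟨a, b, c, hab, hac, hbc, rfl⟩
  have h := Finset.card_le_univ ({a, b, c} : Finset S)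
  rw [hc, ← Nat.card_eq_fintype_card, hκ] at h
  omega

/-- Elements of `S` commuting with `x`. -/
abbrev CS (S : Subgroup G) (x : G) := {n : G // n ∈ S ∧ n * x = x * n}

lemma card_CS_conj {N : Subgroup G} (hNn : N.Normal) (g x : G) :
    Nat.card (CS N (g * x * g⁻¹)) = Nat.card (CS N x) := by
  refine Nat.card_congr
    { toFun := fun n => ⟨g⁻¹ * n.1 * g, by simpa using hNn.conj_mem n.1 n.2.1 g⁻¹, ?_⟩
      invFun := fun n => ⟨g * n.1 * g⁻¹, hNn.conj_mem n.1 n.2.1 g, ?_⟩
      left_inv := ?_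
      right_inv := ?_ }
  · have hn := n.2.2
    calc g⁻¹ * n.1 * g * x = g⁻¹ * (n.1 * (g * x * g⁻¹)) * g := by group
      _ = g⁻¹ * ((g * x * g⁻¹) * n.1) * g := by rw [hn]
      _ = x * (g⁻¹ * n.1 * g) := by group
  · have hn := n.2.2
    calc g * n.1 * g⁻¹ * (g * x * g⁻¹) = g * (n.1 * x) * g⁻¹ := by group
      _ = g * (x * n.1) * g⁻¹ := by rw [hn]
      _ = g * x * g⁻¹ * (g * n.1 * g⁻¹) := by group
  · intro n
    apply Subtype.ext
    show g * (g⁻¹ * n.1 * g) * g⁻¹ = n.1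
    group
  · intro n
    apply Subtype.ext
    show g⁻¹ * (g * n.1 * g⁻¹) * g = n.1
    group

lemma mem_L {N T : Subgroup G} (l : G) :
    l ∈ N ⊓ Subgroup.centralizer (T : Set G) ↔ l ∈ N ∧ ∀ t ∈ T, l * t = t * l := by
  constructor
  · rintro ⟨h1, h2⟩
    exact ⟨h1, fun t ht => (Subgroup.mem_centralizer_iff.1 h2 t ht).symm⟩
  · rintro ⟨h1, h2⟩
    exact ⟨h1, Subgroup.mem_centralizer_iff.2 fun t ht => (h2 t ht).symm⟩

/-- The centraliser orders multiply. -/
lemma card_CS_mul {N T : Subgroup G} (hNn : N.Normal)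
    (hNmin : ∀ M : Subgroup G, M.Normal → M ≠ ⊥ → M ≤ N → M = N) (hT : MinIn N T)
    (hnc : ∃ a ∈ T, ∃ b ∈ T, a * b ≠ b * a) {m w : G} (hm : m ∈ T) (hw : w ∈ N)
    (hwc : ∀ t ∈ T, w * t = t * w) :
    Nat.card (CS N (m * w)) =
      Nat.card (CS T m) * Nat.card (CS (N ⊓ Subgroup.centralizer (T : Set G)) w) := by
  set L := N ⊓ Subgroup.centralizer (T : Set G) with hLdef
  have hL : ∀ l : G, l ∈ L ↔ l ∈ N ∧ ∀ t ∈ T, l * t = t * l := fun l => mem_L l
  have hz1 : ∀ z ∈ T, z ∈ L → z = 1 := fun z hz hzL =>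
    hT.center_eq_one hNn hNmin hnc hz ((hL z).1 hzL).2
  have hwL : w ∈ L := (hL w).2 ⟨hw, hwc⟩
  rw [← Nat.card_prod]
  symm
  refine Nat.card_congr (Equiv.ofBijective (fun p => ⟨p.1.1 * p.2.1, ?_, ?_⟩) ⟨?_, ?_⟩)
  · exact N.mul_mem (hT.le p.1.2.1) ((hL _).1 p.2.2.1).1
  · obtain ⟨⟨t, ht, htm⟩, ⟨l, hl, hlw⟩⟩ := p
    have hlT := ((hL l).1 hl).2
    show t * l * (m * w) = m * w * (t * l)
    calc t * l * (m * w) = t * (l * m) * w := by group
      _ = t * (m * l) * w := by rw [hlT m hm]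
      _ = (t * m) * (l * w) := by group
      _ = (m * t) * (w * l) := by rw [htm, hlw]
      _ = m * (t * w) * l := by group
      _ = m * (w * t) * l := by rw [hwc t ht]
      _ = m * w * (t * l) := by group
  · rintro ⟨⟨t, ht, htm⟩, ⟨l, hl, hlw⟩⟩ ⟨⟨t', ht', htm'⟩, ⟨l', hl', hlw'⟩⟩ h
    have h1 : t * l = t' * l' := congrArg Subtype.val h
    have h2 : t'⁻¹ * t = l' * l⁻¹ := by
      calc t'⁻¹ * t = t'⁻¹ * (t * l) * l⁻¹ := by group
        _ = t'⁻¹ * (t' * l') * l⁻¹ := by rw [h1]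
        _ = l' * l⁻¹ := by group
    have h3 : t'⁻¹ * t = 1 := hz1 _ (T.mul_mem (T.inv_mem ht') ht) (by
      rw [h2]
      exact L.mul_mem hl' (L.inv_mem hl))
    have h4 : t = t' := by
      rw [inv_mul_eq_one] at h3
      exact h3.symm
    subst h4
    have h5 : l = l' := mul_left_cancel h1
    subst h5
    rfl
  · rintro ⟨n, hn, hnc'⟩
    obtain ⟨c, t, rfl, ht, hc, hct⟩ := hT.decomp hNn hNmin n hn
    have hcL : c ∈ L := (hL c).2 ⟨hc, hct⟩
    have h1 : (t * m) * (c * w) = (m * t) * (w * c) := by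
      have h2 : c * m = m * c := hct m hm
      have h3 : c * t = t * c := hct t ht
      have h4 : w * t = t * w := hwc t ht
      calc (t * m) * (c * w) = t * (m * c) * w := by group
        _ = t * (c * m) * w := by rw [h2]
        _ = (t * c) * (m * w) := by group
        _ = (c * t) * (m * w) := by rw [h3]
        _ = (m * w) * (c * t) := hnc'
        _ = m * w * (t * c) := by rw [h3]
        _ = m * (w * t) * c := by group
        _ = m * (t * w) * c := by rw [h4]
        _ = (m * t) * (w * c) := by group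
    have h2 : (m * t)⁻¹ * (t * m) = (w * c) * (c * w)⁻¹ := by
      calc (m * t)⁻¹ * (t * m) = (m * t)⁻¹ * ((t * m) * (c * w)) * (c * w)⁻¹ := by group
        _ = (m * t)⁻¹ * ((m * t) * (w * c)) * (c * w)⁻¹ := by rw [h1]
        _ = (w * c) * (c * w)⁻¹ := by group
    have h3 : (m * t)⁻¹ * (t * m) = 1 := hz1 _ (T.mul_mem (T.inv_mem (T.mul_mem hm ht))
      (T.mul_mem ht hm)) (by
        rw [h2]
        exact L.mul_mem (L.mul_mem hwL hcL) (L.inv_mem (L.mul_mem hcL hwL)))
    have h4 : t * m = m * t := by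
      rw [inv_mul_eq_one] at h3
      exact h3.symm
    have h5 : c * w = w * c := by
      rw [h4] at h1
      exact mul_left_cancel h1
    refine ⟨⟨⟨t, ht, h4⟩, ⟨c, hcL, h5⟩⟩, ?_⟩
    apply Subtype.ext
    exact (hct t ht).symm

/-- In a nontrivial group with trivial centre two nonidentity elements have centralisers of
different orders. -/
lemma exists_two_sizes {A : Type*} [Group A] [Finite A] (hz : ∀ z : A, (∀ t, z * t = t * z) → z = 1)
    {a : A} (ha : a ≠ 1) : ∃ b : A, b ≠ 1 ∧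
      Nat.card (Subgroup.centralizer ({a} : Set A)) ≠ Nat.card (Subgroup.centralizer ({b} : Set A)) := by
  set C := Subgroup.centralizer ({a} : Set A) with hC
  have hi : C.index ≠ 1 := by
    intro h
    rw [Subgroup.index_eq_one] at h
    apply ha
    apply hz
    intro t
    have h1 : t ∈ C := by rw [h]; trivial
    exact (Subgroup.mem_centralizer_singleton_iff.1 h1).symm
  obtain ⟨r, hr, hrd⟩ := Nat.exists_prime_and_dvd hi
  haveI : Fact r.Prime := ⟨hr⟩
  have hcA : r ∣ Nat.card A := hrd.trans (Subgroup.index_dvd_card C)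
  obtain ⟨P⟩ : Nonempty (Sylow r A) := inferInstance
  have hPb := P.ne_bot_of_dvd_card hcA
  haveI : Nontrivial P := (Subgroup.nontrivial_iff_ne_bot _).2 hPb
  have hcen := P.isPGroup'.center_nontrivial
  obtain ⟨z, hz1⟩ := exists_ne (1 : Subgroup.center P)
  have hzA : ((z : P) : A) ≠ 1 := fun h => hz1 (Subtype.ext (Subtype.ext h))
  refine ⟨((z : P) : A), hzA, fun hcard => ?_⟩
  have hle : (P : Subgroup A) ≤ Subgroup.centralizer ({((z : P) : A)} : Set A) := by
    intro x hx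
    rw [Subgroup.mem_centralizer_singleton_iff]
    have h2 := (Subgroup.mem_center_iff.1 z.2) ⟨x, hx⟩
    exact (congrArg Subtype.val h2)
  have hdvd := Subgroup.index_dvd_of_le hle
  have hindex : C.index = (Subgroup.centralizer ({((z : P) : A)} : Set A)).index := by
    have h1 := Subgroup.card_mul_index C
    have h2 := Subgroup.card_mul_index (Subgroup.centralizer ({((z : P) : A)} : Set A))
    rw [← hcard, ← h1] at h2
    exact Nat.eq_of_mul_eq_mul_left Nat.card_pos h2.symm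
  rw [← hindex] at hdvd
  exact P.not_dvd_index (hrd.trans hdvd)

lemma card_cent_lt {A : Type*} [Group A] [Finite A] (hz : ∀ z : A, (∀ t, z * t = t * z) → z = 1)
    {a : A} (ha : a ≠ 1) : Nat.card (Subgroup.centralizer ({a} : Set A)) < Nat.card A := by
  set C := Subgroup.centralizer ({a} : Set A) with hC
  have hi : C.index ≠ 1 := by
    intro h
    rw [Subgroup.index_eq_one] at h
    apply ha
    apply hz
    intro t
    have h1 : t ∈ C := by rw [h]; trivial
    exact (Subgroup.mem_centralizer_singleton_iff.1 h1).symm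
  have h1 := Subgroup.card_mul_index C
  have h0 : C.index ≠ 0 := Subgroup.index_ne_zero_of_finite
  have hpos : 0 < Nat.card C := Nat.card_pos
  have h2 : 2 ≤ C.index := by omega
  nlinarith

lemma card_CS_eq {T : Subgroup G} {m : G} (hm : m ∈ T) :
    Nat.card (CS T m) = Nat.card (Subgroup.centralizer ({(⟨m, hm⟩ : T)} : Set T)) := by
  refine Nat.card_congr
    { toFun := fun n => ⟨⟨n.1, n.2.1⟩, Subgroup.mem_centralizer_singleton_iff.2 (Subtype.ext n.2.2)⟩
      invFun := fun n => ⟨n.1.1, n.1.2,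
        congrArg Subtype.val (Subgroup.mem_centralizer_singleton_iff.1 n.2)⟩
      left_inv := fun n => rfl
      right_inv := fun n => rfl }

/-- The intransitive case. -/
lemma false_of_intrans [Finite G] [Finite Ω] [FaithfulSMul G Ω] [Nontrivial Ω]
    (hκ : Nat.card {c : ConjClasses G // ∃ g : G, ConjClasses.mk g = c ∧ ∀ ω : Ω, g • ω ≠ ω} = 2)
    (hprim : IsPreprimitive G Ω) {N T : Subgroup G} (hNn : N.Normal) (hN : N ≠ ⊥)
    (hNmin : ∀ M : Subgroup G, M.Normal → M ≠ ⊥ → M ≤ N → M = N) (hT : MinIn N T)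
    (hnc : ∃ a ∈ T, ∃ b ∈ T, a * b ≠ b * a)
    (hnt : ¬ ∀ a b : Ω, ∃ t ∈ T, t • a = b) : False := by
  classical
  obtain ⟨w, hwN, hwc, hwd⟩ := exists_fpf hprim hNn hN hNmin hT hnt
  have hcen : ∀ z : T, (∀ t, z * t = t * z) → z = 1 := by
    intro z hz
    apply Subtype.ext
    apply hT.center_eq_one hNn hNmin hnc z.2
    intro t ht
    exact congrArg Subtype.val (hz ⟨t, ht⟩)
  obtain ⟨m₀, hm₀, hm₀1⟩ : ∃ x ∈ T, x ≠ 1 := by
    by_contra hcon'
    push Not at hcon'
    exact hT.ne ((Subgroup.eq_bot_iff_forall _).2 hcon')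
  have hne₀ : (⟨m₀, hm₀⟩ : T) ≠ 1 := fun h => hm₀1 (congrArg Subtype.val h)
  obtain ⟨b, hb, hbc⟩ := exists_two_sizes hcen hne₀
  have h1 := card_cent_lt hcen hne₀
  have h2 := card_cent_lt hcen hb
  -- the conjugacy invariant
  have hpos : 0 < Nat.card (CS (N ⊓ Subgroup.centralizer (T : Set G)) w) :=
    Nat.card_pos_iff.2 ⟨⟨⟨w, (mem_L w).2 ⟨hwN, hwc⟩, rfl⟩⟩, inferInstance⟩
  have key : ∀ m ∈ T, ∀ m' ∈ T, IsConj (m * w) (m' * w) →
      Nat.card (CS T m) = Nat.card (CS T m') := by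
    intro m hm m' hm' hconj
    obtain ⟨g, hg⟩ := isConj_iff.1 hconj
    have h3 := card_CS_conj hNn g (m * w)
    rw [hg, card_CS_mul hNn hNmin hT hnc hm hwN hwc,
      card_CS_mul hNn hNmin hT hnc hm' hwN hwc] at h3
    exact (Nat.eq_of_mul_eq_mul_right hpos h3).symm
  have hone : Nat.card (CS T 1) = Nat.card T := by
    rw [card_CS_eq T.one_mem]
    have : (⟨1, T.one_mem⟩ : T) = 1 := rfl
    rw [this]
    have h3 : Subgroup.centralizer ({1} : Set T) = ⊤ := by
      rw [eq_top_iff]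
      intro x _
      rw [Subgroup.mem_centralizer_singleton_iff]
      simp
    rw [h3, Subgroup.card_top]
  refine false_of_three (Ω := Ω) hκ (x := 1 * w) (y := m₀ * w) (z := (b : G) * w)
    (hwd 1 T.one_mem) (hwd m₀ hm₀) (hwd b b.2) ?_ ?_ ?_
  · intro h
    have h3 := key 1 T.one_mem m₀ hm₀ h
    rw [hone, card_CS_eq hm₀] at h3
    omega
  · intro h
    have h3 := key 1 T.one_mem b b.2 h
    rw [hone, card_CS_eq b.2] at h3
    exact (ne_of_gt h2) h3
  · intro h
    have h3 := key m₀ hm₀ b b.2 h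
    rw [card_CS_eq hm₀, card_CS_eq b.2] at h3
    exact hbc h3

/-- An element of `T` of prime order different from a given element's. -/
lemma exists_two_primes [Finite G] {N T : Subgroup G} (hNn : N.Normal)
    (hNmin : ∀ M : Subgroup G, M.Normal → M ≠ ⊥ → M ≤ N → M = N) (hT : MinIn N T)
    (hnc : ∃ a ∈ T, ∃ b ∈ T, a * b ≠ b * a) :
    ∃ a ∈ T, ∃ b ∈ T, a ≠ 1 ∧ b ≠ 1 ∧ orderOf a ≠ orderOf b := by
  obtain ⟨a, ha, q, hq, -, hoa⟩ := exists_prime_order_ne hNn hNmin hT hnc 2 Nat.prime_two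
  obtain ⟨b, hb, q', hq', hqq, hob⟩ := exists_prime_order_ne hNn hNmin hT hnc q hq
  refine ⟨a, ha, b, hb, ?_, ?_, ?_⟩
  · rintro rfl
    rw [orderOf_one] at hoa
    exact hq.one_lt.ne hoa
  · rintro rfl
    rw [orderOf_one] at hob
    exact hq'.one_lt.ne hob
  · rw [hoa, hob]
    exact hqq.symm

/-- The case `T` normal with non-trivial centraliser. -/
lemma false_of_normal [Finite G] [Finite Ω] [FaithfulSMul G Ω] [Nontrivial Ω]
    (hκ : Nat.card {c : ConjClasses G // ∃ g : G, ConjClasses.mk g = c ∧ ∀ ω : Ω, g • ω ≠ ω} = 2)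
    (hprim : IsPreprimitive G Ω) {T : Subgroup G} (hTn : T.Normal)
    (hNmin : ∀ M : Subgroup G, M.Normal → M ≠ ⊥ → M ≤ T → M = T) (hT : MinIn T T)
    (hnc : ∃ a ∈ T, ∃ b ∈ T, a * b ≠ b * a)
    (hCb : Subgroup.centralizer (T : Set G) ≠ ⊥) : False := by
  have hCn : (Subgroup.centralizer (T : Set G)).Normal := by
    haveI := hTn
    exact Subgroup.normal_centralizer
  have htrC := normal_trans (Ω := Ω) hprim hCn hCb
  have htrT := normal_trans (Ω := Ω) hprim hTn hT.ne
  obtain ⟨a, ha, b, hb, ha1, hb1, hab⟩ := exists_two_primes hTn hNmin hT hnc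
  obtain ⟨z, hz, hz1⟩ : ∃ x ∈ Subgroup.centralizer (T : Set G), x ≠ 1 := by
    by_contra hcon'
    push Not at hcon'
    exact hCb ((Subgroup.eq_bot_iff_forall _).2 hcon')
  have hzc : ∀ t ∈ T, z * t = t * z := fun t ht => (Subgroup.mem_centralizer_iff.1 hz t ht).symm
  have hdT : ∀ t ∈ T, t ≠ 1 → Der G (Ω := Ω) t := fun t ht ht1 =>
    der_of_comm_trans htrC (fun s hs => Subgroup.mem_centralizer_iff.1 hs t ht) ht1
  have hzd : Der G (Ω := Ω) z := der_of_comm_trans htrT hzc hz1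
  have hzT : ∀ t ∈ T, ¬ IsConj t z := by
    intro t ht hconj
    obtain ⟨g, hg⟩ := isConj_iff.1 hconj
    have hzT : z ∈ T := by
      rw [← hg]
      exact hTn.conj_mem t ht g
    exact hz1 (hT.center_eq_one hTn hNmin hnc hzT hzc)
  refine false_of_three (Ω := Ω) hκ (hdT a ha ha1) (hdT b hb hb1) hzd ?_ (hzT a ha) (hzT b hb)
  intro hconj
  obtain ⟨g, hg⟩ := isConj_iff.1 hconj
  apply hab
  rw [← hg, orderOf_conj']

/-- `T` transitive, not normal. -/
lemma false_of_trans_not_normal [Finite G] [Finite Ω] [FaithfulSMul G Ω] [Nontrivial Ω]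
    (hκ : Nat.card {c : ConjClasses G // ∃ g : G, ConjClasses.mk g = c ∧ ∀ ω : Ω, g • ω ≠ ω} = 2)
    {N T : Subgroup G} (hNn : N.Normal)
    (hNmin : ∀ M : Subgroup G, M.Normal → M ≠ ⊥ → M ≤ N → M = N) (hT : MinIn N T)
    (hnc : ∃ a ∈ T, ∃ b ∈ T, a * b ≠ b * a)
    (htrans : ∀ a b : Ω, ∃ t ∈ T, t • a = b) {g : G}
    (hg : T.map (MulAut.conj g).toMonoidHom ≠ T) : False := by
  set T' := T.map (MulAut.conj g).toMonoidHom with hT'def
  have hT' : MinIn N T' := hT.conj hNn g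
  have hTT' : T ≠ T' := fun h => hg h.symm
  have htrT' : ∀ a b : Ω, ∃ t ∈ T', t • a = b := map_conj_trans htrans g
  have hcm : ∀ t ∈ T, ∀ s ∈ T', t * s = s * t := fun t ht s hs => hT.comm_of_ne hT' hTT' ht hs
  have hdT : ∀ t ∈ T, t ≠ 1 → Der G (Ω := Ω) t := fun t ht ht1 =>
    der_of_comm_trans htrT' (hcm t ht) ht1
  obtain ⟨a, ha, b', hb', ha1, hb1, hab⟩ := exists_two_primes hNn hNmin hT hnc
  obtain ⟨x₀⟩ := (inferInstance : Nonempty Ω)
  obtain ⟨b, hb, hbx⟩ := htrT' x₀ (b' • x₀)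
  have hb1' : b ≠ 1 := by
    rintro rfl
    rw [one_smul] at hbx
    exact hb1 (eq_one_of_comm_trans htrT' (hcm b' hb') hbx.symm)
  -- `a * b` is a derangement
  have hder : Der G (Ω := Ω) (a * b) := by
    intro x hx
    obtain ⟨c, hc, rfl⟩ := htrans x₀ x
    have h1 : (a * c * b') • x₀ = c • x₀ := by
      rw [mul_smul, ← hbx, ← mul_smul, mul_assoc, hcm c hc b hb, ← mul_assoc, mul_smul]
      exact hx
    have h2 : (c⁻¹ * (a * c * b')) • x₀ = x₀ := by
      rw [mul_smul, h1, inv_smul_smul]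
    have h3 : c⁻¹ * (a * c * b') = 1 :=
      eq_one_of_comm_trans htrT' (hcm _ (T.mul_mem (T.inv_mem hc)
        (T.mul_mem (T.mul_mem ha hc) hb'))) h2
    have h4 : b' = c⁻¹ * a⁻¹ * c := by
      have h5 : (c⁻¹ * a * c) * b' = 1 := by
        rw [← h3]
        group
      have h6 : b' = (c⁻¹ * a * c)⁻¹ := eq_inv_of_mul_eq_one_right h5
      rw [h6]
      group
    apply hab
    rw [h4]
    have h7 := orderOf_conj' c⁻¹ a⁻¹
    rw [inv_inv] at h7
    rw [h7, orderOf_inv]
  -- `a * b` is not conjugate to an element of `T`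
  have hnot : ∀ t ∈ T, ¬ IsConj t (a * b) := by
    intro t ht hconj
    obtain ⟨h, hh⟩ := isConj_iff.1 hconj
    have hmem : a * b ∈ T.map (MulAut.conj h).toMonoidHom := ⟨t, ht, by
      rw [← hh]
      simp⟩
    have hTh := hT.conj hNn h
    by_cases hTeq : T = T.map (MulAut.conj h).toMonoidHom
    · rw [← hTeq] at hmem
      have h1 : b ∈ T := (Subgroup.mul_mem_cancel_left _ ha).1 hmem
      have h2 : b ∈ T ⊓ T' := ⟨h1, hb⟩
      rw [hT.inf_eq_bot hT' hTT', Subgroup.mem_bot] at h2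
      exact hb1' h2
    · apply ha1
      apply hT.center_eq_one hNn hNmin hnc ha
      intro s hs
      have h1 := hT.comm_of_ne hTh hTeq hs hmem
      have h2 := hcm s hs b hb
      have h3 : a * s * b = s * a * b := by
        calc a * s * b = a * (s * b) := by group
          _ = a * (b * s) := by rw [h2]
          _ = (a * b) * s := by group
          _ = s * (a * b) := h1.symm
          _ = s * a * b := by group
      exact mul_right_cancel h3
  refine false_of_three (Ω := Ω) hκ (hdT a ha ha1) (hdT b' hb' hb1) hder ?_ (hnot a ha) (hnot b' hb')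
  intro hconj
  obtain ⟨g, hg⟩ := isConj_iff.1 hconj
  apply hab
  rw [← hg, orderOf_conj']

end Cfsg.Agent.Lib.Derange.TwoClass
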